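import Groth.Agent.SGA3cLib.Transporter
import Groth.Agent.RedSepLib.Immersion
import Groth.Agent.AbVarLib.HomDim
import Groth.Agent.AbVarLib.HomFlat
import Groth.Agent.AbVarLib.AlgClosedIntegral

/-! # Closed points of schemes over an algebraically closed field as rational points -/

set_option autoImplicit false
set_option backward.isDefEq.respectTransparency.types false

universe u

open CategoryTheory CategoryTheory.Limits MonoidalCategory CartesianMonoidalCategory AlgebraicGeometry MonObj
  TopologicalSpace

namespace Groth.Agent.RatCurve29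

variable {k : Type u} [Field k]

/-- The image of a rational point. -/
noncomputable abbrev ptOf {A : Over (Spec (CommRingCat.of k))}
    (a : 𝟙_ (Over (Spec (CommRingCat.of k))) ⟶ A) : A.left := a.left (IsLocalRing.closedPoint k)

theorem ptOf_comp {A B : Over (Spec (CommRingCat.of k))} (a : 𝟙_ (Over (Spec (CommRingCat.of k))) ⟶ A) (f : A ⟶ B) :
    ptOf (a ≫ f) = f.left (ptOf a) := rfl

variable [IsAlgClosed k]

theorem exists_ptOf {A : Over (Spec (CommRingCat.of k))} [LocallyOfFiniteType A.hom] {x : A.left}
    (hx : IsClosed ({x} : Set A.left)) : ∃ a : 𝟙_ (Over (Spec (CommRingCat.of k))) ⟶ A, ptOf a = x :=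
  ⟨Over.homMk (pointOfClosedPoint A.hom x hx) (pointOfClosedPoint_comp A.hom x hx),
    pointOfClosedPoint_apply A.hom x hx _⟩

/-- A morphism with closed points sent into a closed set maps into it. -/
theorem range_subset_of_points {T A : Over (Spec (CommRingCat.of k))} [LocallyOfFiniteType T.hom] (f : T ⟶ A)
    {Z : Set A.left} (hZ : IsClosed Z) (h : ∀ t : 𝟙_ (Over (Spec (CommRingCat.of k))) ⟶ T, ptOf (t ≫ f) ∈ Z) :
    Set.range f.left ⊆ Z := by
  rintro _ ⟨w, rfl⟩
  by_contra hw
  have : JacobsonSpace T.left := LocallyOfFiniteType.jacobsonSpace T.hom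
  obtain ⟨v, hv, hvc⟩ := nonempty_inter_closedPoints (Z := f.left ⁻¹' Zᶜ) ⟨w, hw⟩
    (hZ.isOpen_compl.preimage f.left.continuous).isLocallyClosed
  obtain ⟨t, rfl⟩ := exists_ptOf (mem_closedPoints_iff.1 hvc)
  exact hv (h t)

/-- everything is flat over a field -/
theorem flat_of_field {K : Type u} [Field K] {S : Scheme.{u}} (f : S ⟶ Spec (CommRingCat.of K)) : Flat f := by
  rw [HasRingHomProperty.iff_of_source_openCover (P := @Flat) S.affineCover]
  intro i
  have hK : IsField Γ(Spec (CommRingCat.of K), ⊤) :=
    (Scheme.ΓSpecIso (CommRingCat.of K)).commRingCatIsoToRingEquiv.toMulEquiv.isField (Field.toIsField K)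
  let := hK.toField
  let _ := ((S.affineCover.f i ≫ f).appTop).hom.toAlgebra
  show Module.Flat Γ(Spec (CommRingCat.of K), ⊤) _
  infer_instance

/-- finite type over a locally noetherian base is finitely presented -/
theorem lfp_of_isLocallyNoetherian {X Y : Scheme.{u}} (f : X ⟶ Y) [LocallyOfFiniteType f] [IsLocallyNoetherian Y] :
    LocallyOfFinitePresentation f :=
  ⟨fun {U} hU {V} hV e => by
    have : IsNoetherianRing Γ(Y, U) := IsLocallyNoetherian.component_noetherian ⟨U, hU⟩
    algebraize [(f.appLE U V e).hom]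
    have := f.finiteType_appLE hU hV e
    exact Algebra.FinitePresentation.of_finiteType.1 this⟩

end Groth.Agent.RatCurve29
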